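import Mathlib
import Groth.Agent.H27DR.Quotient

/-! Exterior powers of flat modules are flat. -/

set_option autoImplicit false
set_option linter.style.haveILetI false
universe u

namespace Groth.Agent.H8Props.IndSmoothKaehler

open exteriorPower

variable {A M N : Type u} [CommRing A] [AddCommGroup M] [Module A M] [AddCommGroup N] [Module A N]

/-- The kernel of `⋀^(n+1) π` for surjective `π` is spanned by `v` with `v 0 ∈ ker π`. -/
theorem ker_extMap_le (π : M →ₗ[A] N) (hπ : Function.Surjective π) (n : ℕ) :
    LinearMap.ker (exteriorPower.map (n + 1) π) ≤ Submodule.span A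
      {x | ∃ v : Fin (n + 1) → M, π (v 0) = 0 ∧ x = ιMulti A (n + 1) v} := by
  classical
  set S := Submodule.span A
      {x | ∃ v : Fin (n + 1) → M, π (v 0) = 0 ∧ x = ιMulti A (n + 1) v}
  let g : M [⋀^Fin (n + 1)]→ₗ[A] (↥(⋀[A]^(n + 1) M) ⧸ S) := S.mkQ.compAlternatingMap (ιMulti A (n + 1))
  have h0 : ∀ v, v 0 ∈ LinearMap.ker π → g v = 0 := fun v hv =>
    (Submodule.Quotient.mk_eq_zero S).mpr (Submodule.subset_span ⟨v, hv, rfl⟩)
  have hg : ∀ v i, v i ∈ LinearMap.ker π → g v = 0 := by
    intro v i hi
    by_cases h : i = 0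
    · exact h0 v (h ▸ hi)
    · have h2 := h0 (v ∘ Equiv.swap 0 i) (by simpa using hi)
      rw [g.map_swap v (Ne.symm h)] at h2
      exact neg_eq_zero.mp h2
  have hwd : ∀ (v v' : Fin (n + 1) → M), (∀ i, π (v i) = π (v' i)) → g v = g v' := fun v v' h =>
    H27DR.map_eq_map_of_sub_mem g _ hg v v' fun i => by simp [h i]
  choose s hs using hπ
  let f : N [⋀^Fin (n + 1)]→ₗ[A] (↥(⋀[A]^(n + 1) M) ⧸ S) :=
    { toFun := fun v => g (s ∘ v)
      map_update_add' := fun {inst} v i x y => by
        simp only [Function.comp_update]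
        rw [hwd (Function.update (s ∘ v) i (s (x + y))) (Function.update (s ∘ v) i (s x + s y))
          (fun j => by by_cases hj : j = i <;> simp [hj, hs]), g.map_update_add]
      map_update_smul' := fun {inst} v i c x => by
        simp only [Function.comp_update]
        rw [hwd (Function.update (s ∘ v) i (s (c • x))) (Function.update (s ∘ v) i (c • s x))
          (fun j => by by_cases hj : j = i <;> simp [hj, hs]), g.map_update_smul]
      map_eq_zero_of_eq' := fun v i j h hij => g.map_eq_zero_of_eq _ (by simp [h]) hij }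
  have hfg : (exteriorPower.alternatingMapLinearEquiv f) ∘ₗ exteriorPower.map (n + 1) π = S.mkQ := by
    refine exteriorPower.linearMap_ext ?_
    ext v
    simp only [LinearMap.compAlternatingMap_apply, LinearMap.comp_apply, map_apply_ιMulti,
      alternatingMapLinearEquiv_apply_ιMulti]
    exact hwd _ _ fun i => by simp [hs]
  intro x hx
  rw [← Submodule.Quotient.mk_eq_zero S, ← Submodule.mkQ_apply, ← hfg, LinearMap.comp_apply,
    LinearMap.mem_ker.mp hx, map_zero]

/-- Exterior powers of flat modules are flat. -/
theorem flat_exteriorPower (A : Type u) [CommRing A] (M : Type u) [AddCommGroup M] [Module A M]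
    [Module.Flat A M] : ∀ n : ℕ, Module.Flat A (⋀[A]^n M)
  | 0 => Module.Flat.of_linearEquiv (exteriorPower.zeroEquiv A M)
  | n + 1 => by
    classical
    refine Module.Flat.of_forall_isTrivialRelation fun {l} {a} {ω} hrel => ?_
    have hsp : ∀ j, ω j ∈ Submodule.span A (Set.range (ιMulti A (n + 1) (M := M))) := fun j => by
      rw [ιMulti_span]; trivial
    choose c hc using fun j => Finsupp.mem_span_range_iff_exists_finsupp.1 (hsp j)
    let F := M →₀ A
    let π : F →ₗ[A] M := Finsupp.linearCombination A id
    have hπ : Function.Surjective π := fun m => ⟨Finsupp.single m 1, by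
      show Finsupp.linearCombination A id (Finsupp.single m 1) = m
      rw [Finsupp.linearCombination_single, one_smul]; rfl⟩
    let ξ : Fin l → ⋀[A]^(n + 1) F := fun j =>
      (c j).sum fun m e => e • ιMulti A (n + 1) fun k => Finsupp.single (m k) (1 : A)
    have hξ : ∀ j, exteriorPower.map (n + 1) π (ξ j) = ω j := fun j => by
      rw [show ξ j = _ from rfl, map_finsuppSum, ← hc j]
      refine Finsupp.sum_congr fun m _ => ?_
      rw [map_smul, map_apply_ιMulti]
      congr 2
      funext k
      show Finsupp.linearCombination A id (Finsupp.single (m k) 1) = m k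
      rw [Finsupp.linearCombination_single, one_smul]; rfl
    have hz : ∑ j, a j • ξ j ∈ LinearMap.ker (exteriorPower.map (n + 1) π) := by
      rw [LinearMap.mem_ker, map_sum, ← hrel]
      exact Finset.sum_congr rfl fun j _ => by rw [map_smul, hξ]
    obtain ⟨K, e, v, hv⟩ := Submodule.mem_span_set'.1 (ker_extMap_le π hπ n hz)
    choose w hw0 hw using fun i => (v i).2
    let S : Finset M := (Finset.univ.biUnion fun j => (c j).support.biUnion fun m => Finset.univ.image m) ∪
      Finset.univ.biUnion fun i => Finset.univ.biUnion fun k => (w i k).support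
    let r : F →ₗ[A] ({x // x ∈ S} →₀ A) := Finsupp.lcomapDomain Subtype.val Subtype.val_injective
    let π' : ({x // x ∈ S} →₀ A) →ₗ[A] M := π ∘ₗ Finsupp.lmapDomain A A Subtype.val
    have hr : ∀ f : F, f.support ⊆ S → π' (r f) = π f := fun f hf => by
      show π (Finsupp.mapDomain Subtype.val (Finsupp.comapDomain Subtype.val f _)) = π f
      rw [Finsupp.mapDomain_comapDomain _ Subtype.val_injective]
      intro x hx
      exact ⟨⟨x, hf hx⟩, rfl⟩
    let g : (Fin K → A) →ₗ[A] ({x // x ∈ S} →₀ A) := Fintype.linearCombination A fun i => r (w i 0)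
    have hg : π' ∘ₗ g = 0 := by
      refine LinearMap.pi_ext fun i x => ?_
      have hwS : (w i 0).support ⊆ S := fun y hy => Finset.mem_union_right _
        (Finset.mem_biUnion.2 ⟨i, Finset.mem_univ _, Finset.mem_biUnion.2 ⟨0, Finset.mem_univ _, hy⟩⟩)
      rw [LinearMap.comp_apply, show g (Pi.single i x) = x • r (w i 0) from
        Fintype.linearCombination_apply_single A _ _ _, map_smul, hr _ hwS, hw0, smul_zero,
        LinearMap.zero_apply]
    obtain ⟨k, b, y, hy, hb⟩ := Module.Flat.exists_factorization_of_comp_eq_zero_of_free hg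
    let ω' : Fin l → ⋀[A]^(n + 1) (Fin k →₀ A) := fun j => exteriorPower.map (n + 1) (b ∘ₗ r) (ξ j)
    have hω' : ∀ j, exteriorPower.map (n + 1) y (ω' j) = ω j := fun j => by
      rw [← LinearMap.comp_apply, ← exteriorPower.map_comp, ← LinearMap.comp_assoc, ← hy,
        show ξ j = _ from rfl, map_finsuppSum, ← hc j]
      refine Finsupp.sum_congr fun m hm => ?_
      rw [map_smul, map_apply_ιMulti]
      congr 2
      funext i
      have hsS : (Finsupp.single (m i) (1 : A)).support ⊆ S := fun x hx => Finset.mem_union_left _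
        (Finset.mem_biUnion.2 ⟨j, Finset.mem_univ _, Finset.mem_biUnion.2 ⟨m, hm, Finset.mem_image.2
          ⟨i, Finset.mem_univ _, (Finset.mem_singleton.1 (Finsupp.support_single_subset hx)).symm⟩⟩⟩)
      show π' (r (Finsupp.single (m i) 1)) = m i
      rw [hr _ hsS]
      show Finsupp.linearCombination A id (Finsupp.single (m i) 1) = m i
      rw [Finsupp.linearCombination_single, one_smul]; rfl
    have hsum : ∑ j, a j • ω' j = 0 := by
      calc ∑ j, a j • ω' j = exteriorPower.map (n + 1) (b ∘ₗ r) (∑ j, a j • ξ j) := by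
            simp only [ω', map_sum, map_smul]
        _ = 0 := by
          rw [← hv, map_sum]
          refine Finset.sum_eq_zero fun i _ => ?_
          rw [map_smul, hw i, map_apply_ιMulti]
          refine smul_eq_zero_of_right _ ((ιMulti A (n + 1)).map_coord_zero 0 ?_)
          show b (r (w i 0)) = 0
          have h1 := LinearMap.congr_fun hb (Pi.single i 1)
          simpa [g] using h1
    obtain ⟨k', p, z, hz', hz0⟩ := Module.Flat.isTrivialRelation_of_sum_smul_eq_zero hsum
    exact ⟨k', p, fun q => exteriorPower.map (n + 1) y (z q),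
      fun j => by rw [← hω' j, hz' j, map_sum]; simp only [map_smul], hz0⟩

end Groth.Agent.H8Props.IndSmoothKaehler
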