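import Mathlib
import Groth.Prelude.Def_Smoothing

/-! Differentials of an ind-smooth algebra are flat. -/

set_option autoImplicit false
set_option linter.style.haveILetI false
universe u

open scoped TensorProduct

namespace Groth.Agent.H8Props.IndSmoothKaehler

/-- The differentials of an ind-smooth algebra form a flat module. -/
theorem flat_kaehler {R A : Type u} [CommRing R] [CommRing A] [Algebra R A]
    (h : Smoothing.IndSmooth R A) : Module.Flat A (Ω[A⁄R]) := by
  classical
  refine Module.Flat.of_forall_isTrivialRelation fun {n} {a} {ω} hrel => ?_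
  have hsp : ∀ j, ω j ∈ Submodule.span A (Set.range (KaehlerDifferential.D R A)) := fun j => by
    rw [KaehlerDifferential.span_range_derivation]; trivial
  choose c hc using fun j => Finsupp.mem_span_range_iff_exists_finsupp.1 (hsp j)
  let P := MvPolynomial A R
  let π : P →ₐ[R] A := MvPolynomial.aeval id
  letI : Algebra P A := π.toRingHom.toAlgebra
  haveI : IsScalarTower R P A := IsScalarTower.of_algebraMap_eq fun r => (π.commutes r).symm
  have hπ : Function.Surjective (algebraMap P A) := fun x => ⟨MvPolynomial.X x, MvPolynomial.aeval_X _ x⟩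
  let z : A ⊗[P] Ω[P⁄R] := ∑ j, a j • (c j).sum fun x e => e ⊗ₜ KaehlerDifferential.D R P (MvPolynomial.X x)
  have hz : KaehlerDifferential.mapBaseChange R P A z = 0 := by
    rw [map_sum, ← hrel]
    refine Finset.sum_congr rfl fun j _ => ?_
    rw [map_smul, map_finsuppSum, ← hc j]
    congr 1
    refine Finsupp.sum_congr fun x _ => ?_
    rw [KaehlerDifferential.mapBaseChange_tmul, KaehlerDifferential.map_D]
    congr 2
    exact MvPolynomial.aeval_X _ x
  obtain ⟨t, ht⟩ := (KaehlerDifferential.exact_kerCotangentToTensor_mapBaseChange R P A hπ z).1 hz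
  obtain ⟨⟨g, hg⟩, rfl⟩ := Ideal.toCotangent_surjective _ t
  rw [KaehlerDifferential.kerCotangentToTensor_toCotangent] at ht
  -- the finite stage
  let s : Finset A := g.vars ∪ Finset.univ.biUnion fun j => (c j).support
  have hgs : (g.vars : Set A) ⊆ ↑s := Finset.coe_subset.2 Finset.subset_union_left
  obtain ⟨g₀, hg₀⟩ := MvPolynomial.exists_rename_eq_of_vars_subset_range g (Subtype.val : {x // x ∈ s} → A)
    Subtype.val_injective (by simpa using hgs)
  let P₀ := MvPolynomial {x // x ∈ s} R
  let π₀ : P₀ →ₐ[R] A := MvPolynomial.aeval Subtype.val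
  have hπg : π₀ g₀ = 0 := by
    have h1 : π₀ g₀ = π (MvPolynomial.rename Subtype.val g₀) := by
      show π₀ g₀ = MvPolynomial.aeval (R := R) (id : A → A) (MvPolynomial.rename Subtype.val g₀)
      rw [MvPolynomial.aeval_rename]
      rfl
    rw [h1, hg₀]; exact hg
  let I : Ideal P₀ := Ideal.span {g₀}
  let ρ : (P₀ ⧸ I) →ₐ[R] A := Ideal.Quotient.liftₐ I π₀ fun y hy => by
    obtain ⟨d, rfl⟩ := Ideal.mem_span_singleton.1 hy
    rw [map_mul, hπg, zero_mul]
  haveI : Algebra.FinitePresentation R (P₀ ⧸ I) :=
    Algebra.FinitePresentation.quotient ⟨{g₀}, by simp [I]⟩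
  obtain ⟨B, _, _, hB, u, v, huv⟩ := h (P₀ ⧸ I) inferInstance ρ
  let q : P₀ →ₐ[R] B := u.comp (Ideal.Quotient.mkₐ R I)
  have hq : ∀ x : {x // x ∈ s}, v (q (MvPolynomial.X x)) = x := fun x => by
    rw [← AlgHom.comp_apply, ← AlgHom.comp_assoc, huv]
    exact MvPolynomial.aeval_X _ x
  letI : Algebra B A := v.toRingHom.toAlgebra
  haveI : IsScalarTower R B A := IsScalarTower.of_algebraMap_eq fun r => (v.commutes r).symm
  let N := A ⊗[B] Ω[B⁄R]
  haveI : Module.Flat A N := inferInstance
  let e : A → N := fun x => if hx : x ∈ s then 1 ⊗ₜ KaehlerDifferential.D R B (q (MvPolynomial.X ⟨x, hx⟩)) else 0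
  let Φ : A ⊗[P] Ω[P⁄R] →ₗ[A] N :=
    (Algebra.TensorProduct.basis A (KaehlerDifferential.mvPolynomialBasis R A)).constr A e
  have hΦX : ∀ x (hx : x ∈ s) (b : A), Φ (b ⊗ₜ KaehlerDifferential.D R P (MvPolynomial.X x)) =
      b ⊗ₜ KaehlerDifferential.D R B (q (MvPolynomial.X ⟨x, hx⟩)) := by
    intro x hx b
    rw [show b ⊗ₜ[P] KaehlerDifferential.D R P (MvPolynomial.X x) =
        b • Algebra.TensorProduct.basis A (KaehlerDifferential.mvPolynomialBasis R A) x from by
      rw [Algebra.TensorProduct.basis_apply, KaehlerDifferential.mvPolynomialBasis_apply,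
        TensorProduct.smul_tmul', smul_eq_mul, mul_one],
      map_smul, Module.Basis.constr_basis, show e x = _ from dif_pos hx, TensorProduct.smul_tmul',
      smul_eq_mul, mul_one]
  have hδ : ∀ p : P₀, Φ ((1 : A) ⊗ₜ KaehlerDifferential.D R P (MvPolynomial.rename Subtype.val p)) =
      (1 : A) ⊗ₜ KaehlerDifferential.D R B (q p) := by
    intro p
    induction p using MvPolynomial.induction_on with
    | C r =>
      rw [MvPolynomial.rename_C, ← MvPolynomial.algebraMap_eq, ← MvPolynomial.algebraMap_eq, AlgHom.commutes,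
        Derivation.map_algebraMap, TensorProduct.tmul_zero, map_zero, Derivation.map_algebraMap,
        TensorProduct.tmul_zero]
    | add p p' hp hp' => simp only [map_add, TensorProduct.tmul_add, hp, hp']
    | mul_X p x hp =>
      rw [map_mul, map_mul q, Derivation.leibniz, Derivation.leibniz, MvPolynomial.rename_X,
        TensorProduct.tmul_add, TensorProduct.tmul_add, TensorProduct.tmul_smul, TensorProduct.tmul_smul,
        TensorProduct.tmul_smul, TensorProduct.tmul_smul, map_add]
      congr 1
      · rw [← IsScalarTower.algebraMap_smul A, map_smul, hΦX x.1 x.2, ← IsScalarTower.algebraMap_smul A (q p)]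
        congr 1
        show π (MvPolynomial.rename Subtype.val p) = v (q p)
        rw [show π (MvPolynomial.rename Subtype.val p) = π₀ p from MvPolynomial.aeval_rename ..]
        exact (congr($huv (Ideal.Quotient.mk I p))).symm
      · rw [← IsScalarTower.algebraMap_smul A, map_smul, hp, ← IsScalarTower.algebraMap_smul A (q (MvPolynomial.X x))]
        congr 1
        exact (MvPolynomial.aeval_X _ _).trans (hq x).symm
  let ω' : Fin n → N := fun j => Φ ((c j).sum fun x b => b ⊗ₜ KaehlerDifferential.D R P (MvPolynomial.X x))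
  have hsum : ∑ j, a j • ω' j = 0 := by
    calc ∑ j, a j • ω' j = Φ z := by simp only [ω', z, map_sum, map_smul]
      _ = 0 := by
        rw [← ht]
        show Φ ((1 : A) ⊗ₜ KaehlerDifferential.D R P g) = 0
        rw [← hg₀, hδ,
          show q g₀ = u (Ideal.Quotient.mk I g₀) from rfl,
          Ideal.Quotient.eq_zero_iff_mem.2 (Ideal.mem_span_singleton_self g₀), map_zero, map_zero,
          TensorProduct.tmul_zero]
  let ψ := KaehlerDifferential.mapBaseChange R B A
  have hψ : ∀ j, ψ (ω' j) = ω j := by
    intro j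
    rw [show ω' j = _ from map_finsuppSum Φ _ _, map_finsuppSum, ← hc j]
    refine Finsupp.sum_congr fun x hx => ?_
    have hxs : x ∈ s := Finset.mem_union_right _ (Finset.mem_biUnion.2 ⟨j, Finset.mem_univ _, hx⟩)
    rw [hΦX x hxs, KaehlerDifferential.mapBaseChange_tmul, KaehlerDifferential.map_D]
    congr 2
    exact hq ⟨x, hxs⟩
  obtain ⟨k, m, y, hy, hy0⟩ := Module.Flat.isTrivialRelation_of_sum_smul_eq_zero hsum
  exact ⟨k, m, fun l => ψ (y l), fun j => by rw [← hψ j, hy j, map_sum]; simp only [map_smul], hy0⟩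

end Groth.Agent.H8Props.IndSmoothKaehler
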